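import Groth.Agent.ModSiteLib.PullTensorIso
import Groth.Agent.ModSiteLib.TensorAssoc
import Groth.Agent.CohLib.ModSupp
import Groth.Agent.S9045

/-! The inverse image of an invertible module is invertible. -/

universe u
open CategoryTheory Limits Groth.Agent.ModSiteLib ModSiteLib

namespace InvPullLib

variable {C D : Type u} [SmallCategory C] [SmallCategory D] {J : GrothendieckTopology C}
    {K : GrothendieckTopology D} {O : Sheaf J CommRingCat.{u}} {O_D : Sheaf K CommRingCat.{u}}

noncomputable def unitLeftIso (O : Sheaf J CommRingCat.{u}) :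
    (ModSite.tensorBi O).obj (ModSite.unit O) ≅ 𝟭 (ModSite.Mod O) :=
  (tensorFlipIso O _).symm ≪≫ (CohLib.tensorUnitIso O).symm

noncomputable def compIso {P Q : ModSite.Mod O} (e : ((ModSite.tensorBi O).obj P).obj Q ≅ ModSite.unit O) :
    (ModSite.tensorBi O).obj Q ⋙ (ModSite.tensorBi O).obj P ≅ 𝟭 (ModSite.Mod O) :=
  NatIso.ofComponents (fun G => (((assocBi (O := O)).app P).app Q).app G) (fun g => ((((assocBi (O := O)).app P).app Q).hom.naturality g)) |> fun (α :
    (ModSite.tensorBi O).obj (((ModSite.tensorBi O).obj P).obj Q) ≅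
      (ModSite.tensorBi O).obj Q ⋙ (ModSite.tensorBi O).obj P) =>
    α.symm ≪≫ (ModSite.tensorBi O).mapIso e ≪≫ unitLeftIso O

theorem isEquivalence_pull (f : ModSite.RMor O O_D) (L : ModSite.Mod O_D)
    (hL : ((ModSite.tensorBi O_D).obj L).IsEquivalence) :
    ((ModSite.tensorBi O).obj (f.pull.obj L)).IsEquivalence := by
  let a := ((ModSite.tensorBi O_D).obj L).objObjPreimageIso (ModSite.unit O_D)
  let M := ((ModSite.tensorBi O_D).obj L).objPreimage (ModSite.unit O_D)
  let e : ((ModSite.tensorBi O).obj (f.pull.obj L)).obj (f.pull.obj M) ≅ ModSite.unit O :=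
    (ModSiteLib.pullTensIso f L M).symm ≪≫ f.pull.mapIso a ≪≫ Groth.Agent.S9045.aux.pullUnit f
  let e' : ((ModSite.tensorBi O).obj (f.pull.obj M)).obj (f.pull.obj L) ≅ ModSite.unit O :=
    ((tensorFlipIso O (f.pull.obj M)).app (f.pull.obj L)).symm ≪≫ e
  exact (CategoryTheory.Equivalence.mk ((ModSite.tensorBi O).obj (f.pull.obj L))
    ((ModSite.tensorBi O).obj (f.pull.obj M)) (compIso e').symm (compIso e)).isEquivalence_functor

end InvPullLib
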